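import Cfsg.Agent.FL.Defs
import Cfsg.Agent.S0243
import Cfsg.Agent.S0280

/-! Project FL: the exponent of 2 in the orders of the small linear and unitary groups. -/

set_option autoImplicit false

namespace Cfsg.Agent.FL

namespace Card

theorem vo {m : ℕ} (h : m % 2 = 1) : padicValNat 2 m = 0 := padicValNat.eq_zero_of_not_dvd (by omega)

theorem vm {a b : ℕ} (ha : a ≠ 0) (hb : b ≠ 0) : padicValNat 2 (a * b) = padicValNat 2 a + padicValNat 2 b :=
  padicValNat.mul ha hb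

theorem vmo {a b : ℕ} (ha : a ≠ 0) (hb : b % 2 = 1) : padicValNat 2 (a * b) = padicValNat 2 a := by
  rw [vm ha (by omega), vo hb, add_zero]

theorem v1 {m : ℕ} (h : m % 4 = 2) : padicValNat 2 m = 1 := by
  rw [show m = 2 * (m / 2) by omega, vmo two_ne_zero (by omega), padicValNat.self one_lt_two]

theorem v2 {m : ℕ} (h : m % 4 = 0) (h0 : m ≠ 0) : 2 ≤ padicValNat 2 m :=
  (padicValNat_dvd_iff_le h0).1 (by omega)

theorem vg (n : ℕ) {m : ℕ} (hn : n ≠ 0) (h : m ≠ 0) :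
    padicValNat 2 (Nat.gcd n m) = min (padicValNat 2 n) (padicValNat 2 m) := by
  simp only [← Nat.factorization_def _ Nat.prime_two, Nat.factorization_gcd hn h, Finsupp.inf_apply]

theorem pows {r : ℕ} (h : r ≠ 0) :
    padicValNat 2 ((2 * r + 1) ^ 3 - 1) = padicValNat 2 (2 * r + 1 - 1) ∧
    padicValNat 2 ((2 * r + 1) ^ 4 - 1) = padicValNat 2 ((2 * r + 1) ^ 2 - 1) + 1 ∧
    padicValNat 2 ((2 * r + 1) ^ 5 - 1) = padicValNat 2 (2 * r + 1 - 1) ∧
    padicValNat 2 ((2 * r + 1) ^ 3 + 1) = padicValNat 2 (2 * r + 1 + 1) ∧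
    padicValNat 2 ((2 * r + 1) ^ 5 + 1) = padicValNat 2 (2 * r + 1 + 1) := by
  have e2 : (2 * r + 1) ^ 2 - 1 = 4 * (r * r + r) := Nat.sub_eq_of_eq_add (by ring)
  refine ⟨?_, ?_, ?_, ?_, ?_⟩
  · rw [show (2 * r + 1) ^ 3 - 1 = (2 * r + 1 - 1) * (2 * (2 * r * r + 3 * r + 1) + 1) from
      Nat.sub_eq_of_eq_add (by rw [Nat.add_sub_cancel]; ring), vmo (by omega) (by omega)]
  · rw [show (2 * r + 1) ^ 4 - 1 = ((2 * r + 1) ^ 2 - 1) * (4 * (r * r + r) + 2) from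
      Nat.sub_eq_of_eq_add (by rw [e2]; ring), vm (by omega) (by omega), v1 (m := 4 * _ + 2) (by omega)]
  · rw [show (2 * r + 1) ^ 5 - 1 = (2 * r + 1 - 1) * (2 * (8 * r ^ 4 + 20 * r ^ 3 + 20 * r ^ 2 + 10 * r + 2) + 1) from
      Nat.sub_eq_of_eq_add (by rw [Nat.add_sub_cancel]; ring), vmo (by omega) (by omega)]
  · rw [show (2 * r + 1) ^ 3 + 1 = (2 * r + 1 + 1) * (2 * (2 * r * r + r) + 1) by ring, vmo (by omega) (by omega)]
  · rw [show (2 * r + 1) ^ 5 + 1 = (2 * r + 1 + 1) * (2 * (8 * r ^ 4 + 12 * r ^ 3 + 8 * r ^ 2 + 2 * r) + 1) by ring,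
      vmo (by omega) (by omega)]

theorem vp {q : ℕ} (hq : Odd q) (k : ℕ) : padicValNat 2 (q ^ k) = 0 := vo (Nat.odd_iff.1 hq.pow)

theorem vprod {ι : Type*} (s : Finset ι) (f : ι → ℕ) (h : ∀ i ∈ s, f i ≠ 0) :
    padicValNat 2 (∏ i ∈ s, f i) = ∑ i ∈ s, padicValNat 2 (f i) := by
  simp only [← Nat.factorization_def _ Nat.prime_two, Nat.factorization_prod h, Finsupp.finsetSum_apply]

theorem sub_ne {q k : ℕ} (h : 1 < q) (hk : k ≠ 0) : q ^ k - 1 ≠ 0 := by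
  have := Nat.one_lt_pow hk h
  omega

theorem small : padicValNat 2 2 = 1 ∧ padicValNat 2 3 = 0 ∧ padicValNat 2 4 = 2 ∧ padicValNat 2 5 = 0 :=
  ⟨v1 rfl, vo rfl, by rw [show 4 = 2 * 2 from rfl, vm two_ne_zero two_ne_zero, v1 rfl], vo rfl⟩

end Card

open Card

theorem val_cases {q : ℕ} (hq : Odd q) (h1 : 1 < q) :
    (q % 4 = 3 ∧ padicValNat 2 (q - 1) = 1 ∧ 2 ≤ padicValNat 2 (q + 1)) ∨
      (q % 4 = 1 ∧ 2 ≤ padicValNat 2 (q - 1) ∧ padicValNat 2 (q + 1) = 1) := by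
  have := Nat.odd_iff.1 hq
  by_cases h : q % 4 = 3
  · exact .inl ⟨h, v1 (by omega), v2 (by omega) (by omega)⟩
  · exact .inr ⟨by omega, v2 (by omega) (by omega), v1 (by omega)⟩

theorem val_sq {q : ℕ} (h1 : 1 < q) :
    padicValNat 2 (q ^ 2 - 1) = padicValNat 2 (q - 1) + padicValNat 2 (q + 1) := by
  rw [← vm (by omega) (by omega), mul_comm, ← Nat.sq_sub_sq, one_pow]

theorem card_L {n : ℕ} (hn : 2 ≤ n ∧ n ≤ 5) {F : Type*} [Field F] [Fintype F] {q : ℕ}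
    (hF : Fintype.card F = q) (hq : Odd q) :
    (Nat.card (Matrix.ProjectiveSpecialLinearGroup (Fin n) F)).factorization 2 =
      sy n (padicValNat 2 (q - 1)) (padicValNat 2 (q + 1)) := by
  have h1 : 1 < q := hF ▸ Fintype.one_lt_card
  have e := congrArg (padicValNat 2) (S0243.result hF n hn.1)
  have e' : ∀ i : Fin n, q ^ n - q ^ (i : ℕ) = (q ^ (n - i) - 1) * q ^ (i : ℕ) := fun i => by
    rw [Nat.sub_mul, one_mul, ← pow_add, Nat.sub_add_cancel i.2.le]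
  have n0 : ∀ i : Fin n, q ^ (n - i) - 1 ≠ 0 := fun i => sub_ne h1 (Nat.sub_ne_zero_of_lt i.2)
  rw [vm (Nat.gcd_ne_zero_left (by omega)) (mul_ne_zero (by omega) Nat.card_pos.ne'), vm (by omega) Nat.card_pos.ne',
    vg n (by omega) (by omega), vprod _ _ fun i _ => by rw [e']; exact mul_ne_zero (n0 i) (by positivity),
    Finset.sum_congr rfl fun i _ => by rw [e', vmo (n0 i) (Nat.odd_iff.1 hq.pow)],
    Fin.sum_univ_eq_sum_range (fun i => padicValNat 2 (q ^ (n - i) - 1))] at e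
  rw [Nat.factorization_def _ Nat.prime_two]
  have c := val_cases hq h1
  have s := val_sq h1
  obtain ⟨r, rfl⟩ := hq
  obtain ⟨p3, p4, p5, -, -⟩ := pows (r := r) (by omega)
  obtain ⟨s2, s3, s4, s5⟩ := small
  obtain ⟨a, b⟩ := hn
  interval_cases n <;>
    simp only [Finset.sum_range_succ, Finset.sum_range_zero, Nat.reduceSub, pow_one, sy, Nat.reduceEqDiff,
      if_true, if_false] at e ⊢ <;> omega

theorem card_U {n : ℕ} (hn : 2 ≤ n ∧ n ≤ 5) {F : Type*} [Field F] [Fintype F] {q : ℕ}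
    (hF : Fintype.card F = q ^ 2) (hq : Odd q) :
    (Nat.card (PSU n F q)).factorization 2 =
      sy n (padicValNat 2 (q + 1)) (padicValNat 2 (q - 1)) := by
  have h1 : 1 < q := (Nat.one_lt_pow_iff two_ne_zero).1 (hF ▸ Fintype.one_lt_card)
  have e := congrArg (padicValNat 2) (S0280.result hF n hn.1)
  have n0 : ∀ i ∈ Finset.range n, (if Even i then q ^ (i + 1) + 1 else q ^ (i + 1) - 1) ≠ 0 := fun i _ => by
    split_ifs
    exacts [Nat.succ_ne_zero _, sub_ne h1 i.succ_ne_zero]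
  rw [vm (Nat.gcd_ne_zero_left (by omega)) (mul_ne_zero (by omega) Nat.card_pos.ne'), vm (by omega) Nat.card_pos.ne',
    vg n (by omega) (by omega), vm (by positivity) (Finset.prod_ne_zero_iff.2 n0), vp hq, vprod _ _ n0] at e
  rw [Nat.factorization_def _ Nat.prime_two]
  have c := val_cases hq h1
  have s := val_sq h1
  obtain ⟨r, rfl⟩ := hq
  obtain ⟨-, p4, -, p3, p5⟩ := pows (r := r) (by omega)
  obtain ⟨s2, s3, s4, s5⟩ := small
  obtain ⟨a, b⟩ := hn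
  interval_cases n <;>
    simp only [Finset.sum_range_succ, Finset.sum_range_zero, Nat.reduceAdd, pow_one, sy, Nat.reduceEqDiff,
      if_true, if_false, Nat.even_iff, Nat.reduceMod, zero_add] at e ⊢ <;> omega

end Cfsg.Agent.FL
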