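import Mathlib
import Cfsg.Prelude.Def_FusionSystem
import Cfsg.Prelude.Def_Classical
import Cfsg.Prelude.Def_CaseTheorems
import Cfsg.Prelude.Def_Sporadic
import Cfsg.Prelude.Def_Spor_Mathieu
import Cfsg.Prelude.Def_Spor_Conway

/-! Project FL (S5117, direction from fusion to the list): invariants of 2-fusion. -/

set_option autoImplicit false

namespace Cfsg.Agent.FL

open Subgroup

/-- The 2-subgroups of `G` embed in `H`, and `G`-fusion goes to `H`-fusion. -/
def Emb (G H : Type*) [Group G] [Group H] : Prop :=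
  ∀ P : Subgroup G, IsPGroup 2 P → ∃ ψ : P →* H, Function.Injective ψ ∧
    ∀ (I : Type) (x y : I → P) (g : G), (∀ i, g * x i * g⁻¹ = y i) →
      ∃ h : H, ∀ i, h * ψ (x i) * h⁻¹ = ψ (y i)

/-- An elementary group of order 8 with an element permuting its involutions cyclically. -/
def Sev (G : Type*) [Group G] : Prop :=
  ∃ x y w g : G, x ≠ 1 ∧ x * x = 1 ∧ x * y = y * x ∧ x * w = w * x ∧
    g * x * g⁻¹ = y ∧ g * y * g⁻¹ = w ∧ g * w * g⁻¹ = x * y

/-- An elementary group of order 8 whose involutions are all conjugate. -/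
def Pure (G : Type*) [Group G] : Prop :=
  ∃ x y w : G, x ≠ 1 ∧ x * x = 1 ∧ x * y = y * x ∧ x * w = w * x ∧ y * w = w * y ∧
    IsConj x y ∧ IsConj x w ∧ IsConj x (x * y) ∧ IsConj x (x * w) ∧ IsConj x (y * w) ∧
      IsConj x (x * y * w)

/-- A subgroup `Z4 × Z4`. -/
def Sq2 (G : Type*) [Group G] : Prop :=
  ∃ x y : G, x * y = y * x ∧ x ^ 4 = 1 ∧ y ^ 4 = 1 ∧ x ^ 2 ≠ 1 ∧ y ^ 2 ≠ 1 ∧ x ^ 2 * y ^ 2 ≠ 1

/-- A subgroup `Z4 × Z4 × Z4`. -/
def Sq3 (G : Type*) [Group G] : Prop :=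
  ∃ x y w : G, x * y = y * x ∧ x * w = w * x ∧ y * w = w * y ∧ x ^ 4 = 1 ∧ y ^ 4 = 1 ∧ w ^ 4 = 1 ∧
    x ^ 2 ≠ 1 ∧ y ^ 2 ≠ 1 ∧ w ^ 2 ≠ 1 ∧ x ^ 2 * y ^ 2 ≠ 1 ∧ x ^ 2 * w ^ 2 ≠ 1 ∧ y ^ 2 * w ^ 2 ≠ 1 ∧
      x ^ 2 * y ^ 2 * w ^ 2 ≠ 1

/-- The exponent of 2 in the order of `PSL n` or `PSU n`, from `a = v(q - ε)` and `b = v(q + ε)`. -/
def sy (n a b : ℕ) : ℕ :=
  if n = 2 then a + b - 1 else if n = 3 then 2 * a + b else
    if n = 4 then 3 * a + 2 * b + 1 - min a 2 else 4 * a + 2 * b + 1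

variable {G H : Type*} [Group G] [Group H]

theorem pg3 {x y w : G} (h1 : x * y = y * x) (h2 : x * w = w * x) (h3 : y * w = w * y)
    (hx : x ^ 4 = 1) (hy : y ^ 4 = 1) (hw : w ^ 4 = 1) : IsPGroup 2 (closure {x, y, w}) := by
  have hc : ∀ a ∈ ({x, y, w} : Set G), ∀ b ∈ ({x, y, w} : Set G), a * b = b * a := by
    rintro a (rfl | rfl | rfl) b (rfl | rfl | rfl) <;> simp only [h1, h2, h3]
  have hc' : ∀ a ∈ closure ({x, y, w} : Set G), ∀ b ∈ closure ({x, y, w} : Set G), a * b = b * a := by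
    intro a ha b hb
    have h4 : closure ({x, y, w} : Set G) ≤ centralizer {x, y, w} :=
      (closure_le _).2 fun c hc0 d hd => hc d hd c hc0
    have h5 : closure ({x, y, w} : Set G) ≤ centralizer {a} :=
      (closure_le _).2 fun c hc0 => mem_centralizer_singleton_iff.2 (h4 ha c hc0)
    exact (mem_centralizer_singleton_iff.1 (h5 hb)).symm
  rintro ⟨a, ha⟩
  refine ⟨2, Subtype.ext ?_⟩
  change a ^ 4 = 1
  induction ha using closure_induction with
  | mem a ha => rcases ha with rfl | rfl | rfl <;> assumption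
  | one => simp
  | mul a b ha hb h h' => rw [Commute.mul_pow (hc' a ha b hb), h, h', mul_one]
  | inv a _ h => rw [inv_pow, h, inv_one]

theorem four_of_sq {x : G} (h : x * x = 1) : x ^ 4 = 1 := by
  rw [show 4 = 2 * 2 from rfl, pow_mul, sq x, h, one_pow]

theorem Emb.isConj {P : Subgroup G} {ψ : P →* H}
    (h : ∀ (I : Type) (x y : I → P) (g : G), (∀ i, g * x i * g⁻¹ = y i) →
      ∃ h : H, ∀ i, h * ψ (x i) * h⁻¹ = ψ (y i)) {a b : P} (e : IsConj (a : G) b) :
    IsConj (ψ a) (ψ b) := by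
  obtain ⟨g, hg⟩ := isConj_iff.1 e
  obtain ⟨k, hk⟩ := h Unit (fun _ => a) (fun _ => b) g fun _ => hg
  exact isConj_iff.2 ⟨k, hk ()⟩

theorem Emb.sev (h : Emb G H) : Sev G → Sev H := by
  rintro ⟨x, y, w, g, h1, h2, h3, h4, e1, e2, e3⟩
  have h5 : y * w = w * y := by
    calc y * w = g * (x * y) * g⁻¹ := by rw [← e2]; nth_rewrite 1 [← e1]; group
      _ = w * y := by rw [h3, ← e2]; nth_rewrite 3 [← e1]; group
  have hy : y * y = 1 := by rw [← e1, conj_mul, h2]; group
  have hw : w * w = 1 := by rw [← e2, conj_mul, hy]; group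
  obtain ⟨ψ, hi, hψ⟩ := h _ (pg3 h3 h4 h5 (four_of_sq h2) (four_of_sq hy) (four_of_sq hw))
  let a : closure ({x, y, w} : Set G) := ⟨x, subset_closure (by simp)⟩
  let b : closure ({x, y, w} : Set G) := ⟨y, subset_closure (by simp)⟩
  let c : closure ({x, y, w} : Set G) := ⟨w, subset_closure (by simp)⟩
  obtain ⟨k, hk⟩ := hψ (Fin 3) ![a, b, c] ![b, c, a * b] g fun i => by
    fin_cases i
    exacts [e1, e2, e3]
  refine ⟨ψ a, ψ b, ψ c, k, fun e => h1 (congrArg Subtype.val (hi (e.trans (map_one ψ).symm))), ?_, ?_, ?_,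
    hk 0, hk 1, (hk 2).trans (map_mul ψ a b)⟩
  · rw [← map_mul, show a * a = 1 from Subtype.ext h2, map_one]
  · rw [← map_mul, ← map_mul, show a * b = b * a from Subtype.ext h3]
  · rw [← map_mul, ← map_mul, show a * c = c * a from Subtype.ext h4]

theorem sq_of_isConj {x y : G} (e : IsConj x y) (h : x * x = 1) : y * y = 1 := by
  obtain ⟨g, rfl⟩ := isConj_iff.1 e
  rw [conj_mul, h]; group

theorem Emb.pure (h : Emb G H) : Pure G → Pure H := by
  rintro ⟨x, y, w, h1, h2, h3, h4, h5, c1, c2, c3, c4, c5, c6⟩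
  obtain ⟨ψ, hi, hψ⟩ := h _ (pg3 h3 h4 h5 (four_of_sq h2) (four_of_sq (sq_of_isConj c1 h2))
    (four_of_sq (sq_of_isConj c2 h2)))
  let a : closure ({x, y, w} : Set G) := ⟨x, subset_closure (by simp)⟩
  let b : closure ({x, y, w} : Set G) := ⟨y, subset_closure (by simp)⟩
  let c : closure ({x, y, w} : Set G) := ⟨w, subset_closure (by simp)⟩
  refine ⟨ψ a, ψ b, ψ c, fun e => h1 (congrArg Subtype.val (hi (e.trans (map_one ψ).symm))), ?_, ?_, ?_, ?_,
    Emb.isConj hψ c1, Emb.isConj hψ c2, ?_, ?_, ?_, ?_⟩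
  · rw [← map_mul, show a * a = 1 from Subtype.ext h2, map_one]
  · rw [← map_mul, ← map_mul, show a * b = b * a from Subtype.ext h3]
  · rw [← map_mul, ← map_mul, show a * c = c * a from Subtype.ext h4]
  · rw [← map_mul, ← map_mul, show b * c = c * b from Subtype.ext h5]
  · rw [← map_mul]; exact Emb.isConj hψ c3
  · rw [← map_mul]; exact Emb.isConj hψ c4
  · rw [← map_mul]; exact Emb.isConj hψ c5
  · rw [← map_mul, ← map_mul]; exact Emb.isConj hψ c6

theorem Emb.sq3 (h : Emb G H) : Sq3 G → Sq3 H := by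
  rintro ⟨x, y, w, h3, h4, h5, hx, hy, hw, n1, n2, n3, n4, n5, n6, n7⟩
  obtain ⟨ψ, hi, -⟩ := h _ (pg3 h3 h4 h5 hx hy hw)
  let a : closure ({x, y, w} : Set G) := ⟨x, subset_closure (by simp)⟩
  let b : closure ({x, y, w} : Set G) := ⟨y, subset_closure (by simp)⟩
  let c : closure ({x, y, w} : Set G) := ⟨w, subset_closure (by simp)⟩
  have k : ∀ d : closure ({x, y, w} : Set G), (d : G) ≠ 1 → ψ d ≠ 1 := fun d hd e =>
    hd (congrArg Subtype.val (hi (e.trans (map_one ψ).symm)))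
  refine ⟨ψ a, ψ b, ψ c, ?_, ?_, ?_, ?_, ?_, ?_, ?_, ?_, ?_, ?_, ?_, ?_, ?_⟩
  · rw [← map_mul, ← map_mul, show a * b = b * a from Subtype.ext h3]
  · rw [← map_mul, ← map_mul, show a * c = c * a from Subtype.ext h4]
  · rw [← map_mul, ← map_mul, show b * c = c * b from Subtype.ext h5]
  · rw [← map_pow, show a ^ 4 = 1 from Subtype.ext hx, map_one]
  · rw [← map_pow, show b ^ 4 = 1 from Subtype.ext hy, map_one]
  · rw [← map_pow, show c ^ 4 = 1 from Subtype.ext hw, map_one]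
  all_goals simp only [← map_pow, ← map_mul]
  exacts [k _ n1, k _ n2, k _ n3, k _ n4, k _ n5, k _ n6, k _ n7]

theorem Emb.sq2 (h : Emb G H) : Sq2 G → Sq2 H := by
  rintro ⟨x, y, h3, hx, hy, n1, n2, n4⟩
  obtain ⟨ψ, hi, -⟩ := h _ (pg3 (w := 1) h3 (by simp) (by simp) hx hy (one_pow _))
  let a : closure ({x, y, 1} : Set G) := ⟨x, subset_closure (by simp)⟩
  let b : closure ({x, y, 1} : Set G) := ⟨y, subset_closure (by simp)⟩
  have k : ∀ d : closure ({x, y, 1} : Set G), (d : G) ≠ 1 → ψ d ≠ 1 := fun d hd e =>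
    hd (congrArg Subtype.val (hi (e.trans (map_one ψ).symm)))
  refine ⟨ψ a, ψ b, ?_, ?_, ?_, ?_, ?_, ?_⟩
  · rw [← map_mul, ← map_mul, show a * b = b * a from Subtype.ext h3]
  · rw [← map_pow, show a ^ 4 = 1 from Subtype.ext hx, map_one]
  · rw [← map_pow, show b ^ 4 = 1 from Subtype.ext hy, map_one]
  all_goals simp only [← map_pow, ← map_mul]
  exacts [k _ n1, k _ n2, k _ n4]

theorem emb_of_inj (φ : G →* H) (hφ : Function.Injective φ) : Emb G H := fun P _ =>
  ⟨φ.comp P.subtype, hφ.comp P.subtype_injective, fun _ x y g e => ⟨φ g, fun i => by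
    simp only [MonoidHom.comp_apply, subtype_apply, ← e i, map_mul, map_inv]⟩⟩

theorem emb_of_equiv (e : G ≃* H) : Emb G H := emb_of_inj e.toMonoidHom e.injective

/-- Fusion of tuples in the Sylow subgroup suffices. -/
theorem emb_of_sylow [Finite G] (S : Sylow 2 G) (ι : S →* H) (hι : Function.Injective ι)
    (h : ∀ (I : Type) (x y : I → S) (g : G), (∀ i, g * x i * g⁻¹ = y i) →
      ∃ h : H, ∀ i, h * ι (x i) * h⁻¹ = ι (y i)) : Emb G H := by
  intro P hP
  obtain ⟨Q, hQ⟩ := hP.exists_le_sylow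
  obtain ⟨k, hk⟩ := MulAction.exists_smul_eq G Q S
  have hm : ∀ a : P, k * a * k⁻¹ ∈ (S : Subgroup G) := fun a => by
    rw [← hk]
    exact Subgroup.smul_mem_pointwise_smul _ (MulAut.conj k) _ (hQ a.2)
  let j : P →* S := ((MulAut.conj k).toMonoidHom.comp P.subtype).codRestrict _ hm
  have hj : ∀ a : P, (j a : G) = k * a * k⁻¹ := fun _ => rfl
  refine ⟨ι.comp j, hι.comp fun a b e => Subtype.ext ?_, fun I x y g e => ?_⟩
  · have := congrArg Subtype.val e
    rw [hj, hj] at this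
    exact mul_left_cancel (mul_right_cancel this)
  · exact h I (fun i => j (x i)) (fun i => j (y i)) (k * g * k⁻¹) fun i => by
      rw [hj, hj, ← e i]; group

/-- The left side of S5117 gives an isomorphism of Sylow subgroups and fusion embeddings both ways. -/
theorem of_realized [Finite G] [Finite H] (S : Sylow 2 G) (ι : (S : Subgroup G) →* H)
    (hι : (Cfsg.groupFusionSystem (S : Subgroup G)).IsRealizedBy ι) (T : Sylow 2 H)
    (hT : (T : Subgroup H) = ι.range) :
    Nonempty ((S : Subgroup G) ≃* (T : Subgroup H)) ∧ Emb G H ∧ Emb H G := by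
  let e : (S : Subgroup G) ≃* (T : Subgroup H) :=
    (MonoidHom.ofInjective hι.1).trans (MulEquiv.subgroupCongr hT.symm)
  have he : ∀ s, (e s : H) = ι s := fun _ => rfl
  refine ⟨⟨e⟩, emb_of_sylow S ι hι.1 fun I x y g hg => ?_,
    emb_of_sylow T ((S : Subgroup G).subtype.comp e.symm.toMonoidHom)
      ((S : Subgroup G).subtype_injective.comp e.symm.injective) fun I x y k hk => ?_⟩
  · let P : Subgroup G := closure (Set.range fun i => (x i : G))
    have hP : P ≤ S := (closure_le _).2 (by rintro _ ⟨i, rfl⟩; exact (x i).2)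
    let φ : P →* G := (MulAut.conj g).toMonoidHom.comp P.subtype
    have hφ : ∀ a : P, φ a ∈ (S : Subgroup G) := by
      have : P ≤ (S : Subgroup G).comap (MulAut.conj g).toMonoidHom := (closure_le _).2 (by
        rintro _ ⟨i, rfl⟩
        change g * x i * g⁻¹ ∈ (S : Subgroup G)
        rw [hg]; exact (y i).2)
      exact fun a => this a.2
    obtain ⟨k, hk⟩ := (hι.2 P hP φ hφ).1 ⟨hP, hφ, g, fun _ => rfl⟩
    refine ⟨k, fun i => ?_⟩
    have := hk ⟨x i, subset_closure ⟨i, rfl⟩⟩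
    exact this.symm.trans (congrArg ι (Subtype.ext (hg i)))
  · let P' : Subgroup H := closure (Set.range fun i => (x i : H))
    have hP' : P' ≤ T := (closure_le _).2 (by rintro _ ⟨i, rfl⟩; exact (x i).2)
    have hc : P' ≤ (T : Subgroup H).comap (MulAut.conj k).toMonoidHom := (closure_le _).2 (by
      rintro _ ⟨i, rfl⟩
      change k * x i * k⁻¹ ∈ (T : Subgroup H)
      rw [hk]; exact (y i).2)
    let P : Subgroup G := closure (Set.range fun i => (e.symm (x i) : G))
    have hP : P ≤ S := (closure_le _).2 (by rintro _ ⟨i, rfl⟩; exact (e.symm (x i)).2)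
    have hm : ∀ a : P, k * ι (inclusion hP a) * k⁻¹ ∈ (T : Subgroup H) := by
      rintro ⟨a, ha⟩
      refine hc (?_ : ι (inclusion hP ⟨a, ha⟩) ∈ P')
      induction ha using closure_induction with
      | mem a ha =>
        obtain ⟨i, rfl⟩ := ha
        refine subset_closure ⟨i, ?_⟩
        rw [← he]
        exact congrArg Subtype.val (e.apply_symm_apply (x i)).symm
      | one => exact (show ι _ = 1 from map_one (ι.comp (inclusion hP))) ▸ one_mem _
      | mul a b ha hb h h' =>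
        exact (show ι _ = _ from map_mul (ι.comp (inclusion hP)) ⟨a, ha⟩ ⟨b, hb⟩) ▸ mul_mem h h'
      | inv a ha h => exact (show ι _ = _ from map_inv (ι.comp (inclusion hP)) ⟨a, ha⟩) ▸ inv_mem h
    let c : P →* T := ((MulAut.conj k).toMonoidHom.comp (ι.comp (inclusion hP))).codRestrict _ hm
    let φ : P →* G := (S : Subgroup G).subtype.comp (e.symm.toMonoidHom.comp c)
    have hφ : ∀ a : P, φ a ∈ (S : Subgroup G) := fun a => (e.symm (c a)).2
    obtain ⟨-, -, g, hg⟩ := (hι.2 P hP φ hφ).2 ⟨k, fun a => by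
      change ι (e.symm (c a)) = _
      rw [← he, e.apply_symm_apply]; rfl⟩
    refine ⟨g, fun i => ?_⟩
    have := hg ⟨e.symm (x i), subset_closure ⟨i, rfl⟩⟩
    refine this.symm.trans ?_
    change (e.symm _ : G) = e.symm (y i)
    congr 2
    refine Subtype.ext ?_
    change k * ι (e.symm (x i)) * k⁻¹ = y i
    rw [← he, e.apply_symm_apply, hk]

end Cfsg.Agent.FL
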