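import Cfsg.Agent.FL.Lin

/-! Project FL: configurations that occur when the field has a suitable fourth root of unity. -/

set_option autoImplicit false

namespace Cfsg.Agent.FL

open Matrix

variable {K : Type*} [Field K] {n : ℕ} {Γ X : Type*} [Group Γ] [Group X]
  {ρ : Γ →* Matrix (Fin n) (Fin n) K} {π : Γ →* X}

theorem Cov.ne_one (h : Cov ρ π) {g : Γ} {d : Fin n → K} (e : ρ g = diagonal d) (j k : Fin n)
    (hj : d j = -1) (hk : d k = 1) : π g ≠ 1 := fun e1 => by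
  obtain ⟨c, hc⟩ := (h.ker g).1 e1
  rw [e, smul_one_eq_diagonal] at hc
  have := diagonal_injective hc
  exact neg_one_ne h.two (by rw [← hj, ← hk, this])

theorem Cov.eq_of (h : Cov ρ π) {a b : Γ} (e : ρ a = ρ b) : π a = π b :=
  (h.eq_iff a b).2 ⟨1, by rw [one_smul, e]⟩

theorem Cov.isConj (h : Cov ρ π) (g : Γ) {a b : Γ} (c : K) (e : ρ g * ρ a = c • (ρ b * ρ g)) :
    IsConj (π a) (π b) := by
  have := (h.eq_iff (g * a) (b * g)).2 ⟨c, by rw [map_mul, map_mul, e]⟩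
  rw [map_mul, map_mul] at this
  exact isConj_iff.2 ⟨π g, by rw [this, mul_inv_cancel_right]⟩

theorem Big.diag (h : Big ρ) : ∃ i : K, i * i = -1 ∧ ∀ d : Fin n → K, ∏ j, d j = 1 →
    (∀ j, d j = 1 ∨ d j = i ∨ d j = -i) → ∃ g, ρ g = diagonal d := by
  obtain ⟨i, hi, h⟩ := h
  refine ⟨i, hi, fun d h1 h2 => h _ (by rw [det_diagonal, h1]) fun σ hσ => ?_⟩
  rw [diagonal_transpose, diagonal_map (map_zero σ), diagonal_mul_diagonal, ← diagonal_one]
  congr 1
  funext j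
  rcases h2 j with e | e | e <;> simp [e, hσ, hi]

theorem Cov.sq2 {ρ : Γ →* Matrix (Fin 3) (Fin 3) K} (h : Cov ρ π) (hb : Big ρ) : Sq2 X := by
  obtain ⟨i, hi, hb⟩ := hb.diag
  obtain ⟨A, hA⟩ := hb ![i, -i, 1] (by simp [Fin.prod_univ_succ, hi]) fun j => by fin_cases j <;> simp
  obtain ⟨B, hB⟩ := hb ![i, 1, -i] (by simp [Fin.prod_univ_succ, hi]) fun j => by fin_cases j <;> simp
  have a2 : ρ (A ^ 2) = diagonal ![-1, -1, 1] := by
    rw [map_pow, hA, sq, diagonal_mul_diagonal]; congr 1; funext j; fin_cases j <;> simp [hi]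
  have b2 : ρ (B ^ 2) = diagonal ![-1, 1, -1] := by
    rw [map_pow, hB, sq, diagonal_mul_diagonal]; congr 1; funext j; fin_cases j <;> simp [hi]
  have k4 : ∀ g (d : Fin 3 → K), ρ (g ^ 2) = diagonal d → (∀ j, d j * d j = 1) → π g ^ 4 = 1 := fun g d e hd => by
    rw [← map_pow, ← map_one π]
    refine h.eq_of ?_
    rw [show 4 = 2 + 2 from rfl, pow_add, map_mul, e, diagonal_mul_diagonal, map_one, ← diagonal_one]
    simp only [hd]
  refine ⟨π A, π B, ?_, k4 _ _ a2 fun j => by fin_cases j <;> simp, k4 _ _ b2 fun j => by fin_cases j <;> simp,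
    ?_, ?_, ?_⟩
  all_goals simp only [← map_pow, ← map_mul]
  · refine h.eq_of ?_
    simp only [map_mul, hA, hB, diagonal_mul_diagonal, mul_comm]
  · exact h.ne_one a2 0 2 rfl rfl
  · exact h.ne_one b2 0 1 rfl rfl
  · exact h.ne_one (by rw [map_mul, a2, b2, diagonal_mul_diagonal]) 1 0 (by simp) (by simp)

theorem Cov.sq3 {ρ : Γ →* Matrix (Fin 5) (Fin 5) K} (h : Cov ρ π) (hb : Big ρ) : Sq3 X := by
  obtain ⟨i, hi, hb⟩ := hb.diag
  obtain ⟨A, hA⟩ := hb ![i, -i, 1, 1, 1] (by simp [Fin.prod_univ_succ, hi]) fun j => by fin_cases j <;> simp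
  obtain ⟨B, hB⟩ := hb ![i, 1, -i, 1, 1] (by simp [Fin.prod_univ_succ, hi]) fun j => by fin_cases j <;> simp
  obtain ⟨C, hC⟩ := hb ![i, 1, 1, -i, 1] (by simp [Fin.prod_univ_succ, hi]) fun j => by fin_cases j <;> simp
  have a2 : ρ (A ^ 2) = diagonal ![-1, -1, 1, 1, 1] := by
    rw [map_pow, hA, sq, diagonal_mul_diagonal]; congr 1; funext j; fin_cases j <;> simp [hi]
  have b2 : ρ (B ^ 2) = diagonal ![-1, 1, -1, 1, 1] := by
    rw [map_pow, hB, sq, diagonal_mul_diagonal]; congr 1; funext j; fin_cases j <;> simp [hi]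
  have c2 : ρ (C ^ 2) = diagonal ![-1, 1, 1, -1, 1] := by
    rw [map_pow, hC, sq, diagonal_mul_diagonal]; congr 1; funext j; fin_cases j <;> simp [hi]
  have k4 : ∀ g (d : Fin 5 → K), ρ (g ^ 2) = diagonal d → (∀ j, d j * d j = 1) → π g ^ 4 = 1 := fun g d e hd => by
    rw [← map_pow, ← map_one π]
    refine h.eq_of ?_
    rw [show 4 = 2 + 2 from rfl, pow_add, map_mul, e, diagonal_mul_diagonal, map_one, ← diagonal_one]
    simp only [hd]
  refine ⟨π A, π B, π C, ?_, ?_, ?_, k4 _ _ a2 fun j => by fin_cases j <;> simp,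
    k4 _ _ b2 fun j => by fin_cases j <;> simp, k4 _ _ c2 fun j => by fin_cases j <;> simp,
    ?_, ?_, ?_, ?_, ?_, ?_, ?_⟩
  all_goals simp only [← map_pow, ← map_mul]
  · refine h.eq_of ?_
    simp only [map_mul, hA, hB, diagonal_mul_diagonal, mul_comm]
  · refine h.eq_of ?_
    simp only [map_mul, hA, hC, diagonal_mul_diagonal, mul_comm]
  · refine h.eq_of ?_
    simp only [map_mul, hB, hC, diagonal_mul_diagonal, mul_comm]
  · exact h.ne_one a2 0 4 rfl rfl
  · exact h.ne_one b2 0 4 rfl rfl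
  · exact h.ne_one c2 0 4 rfl rfl
  · exact h.ne_one (by rw [map_mul, a2, b2, diagonal_mul_diagonal]) 1 4 (by simp) (by simp)
  · exact h.ne_one (by rw [map_mul, a2, c2, diagonal_mul_diagonal]) 1 4 (by simp) (by simp)
  · exact h.ne_one (by rw [map_mul, b2, c2, diagonal_mul_diagonal]) 2 4 (by simp) (by simp)
  · exact h.ne_one (by rw [map_mul, map_mul, a2, b2, c2, diagonal_mul_diagonal, diagonal_mul_diagonal]) 1 4
      (by simp) (by simp)

theorem Cov.pure {ρ : Γ →* Matrix (Fin 4) (Fin 4) K} (h : Cov ρ π) (hb : Big ρ) : Pure X := by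
  obtain ⟨i, hi, hb⟩ := hb
  have h2 := h.two
  obtain ⟨a, ha⟩ : ∃ a : K, a = (1 - i) / 2 := ⟨_, rfl⟩
  obtain ⟨b, hb'⟩ : ∃ b : K, b = (1 + i) / 2 := ⟨_, rfl⟩
  have ab : a * b + a * b = 1 := by rw [ha, hb']; field_simp; linear_combination (-2 : K) * hi
  have ai : i * a = b := by rw [ha, hb']; field_simp; linear_combination (-1 : K) * hi
  have bi : i * b = -a := by rw [← ai, ← mul_assoc, hi, neg_one_mul]
  obtain ⟨A, hA⟩ := hb !![1, 0, 0, 0; 0, 1, 0, 0; 0, 0, -1, 0; 0, 0, 0, -1]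
    (by simp [det_succ_row_zero, Fin.sum_univ_succ]) fun σ _ => by
      ext j k; fin_cases j <;> fin_cases k <;> simp [Matrix.mul_apply, Fin.sum_univ_succ]
  obtain ⟨B, hB⟩ := hb !![1, 0, 0, 0; 0, -1, 0, 0; 0, 0, 1, 0; 0, 0, 0, -1]
    (by simp [det_succ_row_zero, Fin.sum_univ_succ]) fun σ _ => by
      ext j k; fin_cases j <;> fin_cases k <;> simp [Matrix.mul_apply, Fin.sum_univ_succ]
  obtain ⟨C, hC⟩ := hb !![0, 1, 0, 0; 1, 0, 0, 0; 0, 0, 0, 1; 0, 0, 1, 0]
    (by simp [det_succ_row_zero, Fin.sum_univ_succ, Fin.succAbove]) fun σ _ => by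
      ext j k; fin_cases j <;> fin_cases k <;> simp [Matrix.mul_apply, Fin.sum_univ_succ]
  obtain ⟨P, hP⟩ := hb !![1, 0, 0, 0; 0, 0, 0, 1; 0, 1, 0, 0; 0, 0, 1, 0]
    (by simp [det_succ_row_zero, Fin.sum_univ_succ, Fin.succAbove]) fun σ _ => by
      ext j k; fin_cases j <;> fin_cases k <;> simp [Matrix.mul_apply, Fin.sum_univ_succ]
  obtain ⟨g, hg⟩ := hb !![a, -b, 0, 0; a, b, 0, 0; 0, 0, a, -b; 0, 0, a, b]
    (by simp [det_succ_row_zero, Fin.sum_univ_succ, Fin.succAbove]; linear_combination (a * b + a * b + 1) * ab)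
    fun σ hσ => by
      have s1 : σ a = b := by rw [ha, hb', map_div₀, map_sub, map_one, hσ, map_ofNat, sub_neg_eq_add]
      have s2 : σ b = a := by rw [ha, hb', map_div₀, map_add, map_one, hσ, map_ofNat, ← sub_eq_add_neg]
      ext j k; fin_cases j <;> fin_cases k <;> simp [Matrix.mul_apply, Fin.sum_univ_succ, s1, s2, ab, mul_comm b a]
  have r1 : ρ P * ρ A = ρ B * ρ P := by rw [hP, hA, hB]; simp
  have r2 : ρ P * ρ B = ρ A * ρ B * ρ P := by rw [hP, hA, hB]; simp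
  have r3 : ρ g * ρ A = ρ A * ρ g := by rw [hg, hA]; simp
  have r4 : ρ g * ρ B = ρ C * ρ g := by rw [hg, hB, hC]; simp
  have r5 : ρ g * ρ C = (-i) • (ρ B * ρ C * ρ g) := by rw [hg, hB, hC]; simp [ai, bi]
  have c1 := h.isConj P 1 (r1.trans (one_smul _ _).symm)
  have c2 := h.isConj P (a := B) (b := A * B) 1 (by rw [map_mul, one_smul, r2])
  have c3 := h.isConj g 1 (r4.trans (one_smul _ _).symm)
  have c4 := h.isConj g (a := C) (b := B * C) (-i) (by rw [map_mul, r5])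
  have c5 := h.isConj g (a := A * B) (b := A * C) 1 (by
    rw [map_mul, map_mul, one_smul, ← mul_assoc, r3, mul_assoc, r4, mul_assoc])
  have c6 := h.isConj g (a := A * C) (b := A * B * C) (-i) (by
    rw [map_mul, map_mul, map_mul, ← mul_assoc, r3, mul_assoc, r5, Matrix.mul_smul]; simp only [mul_assoc])
  refine ⟨π A, π B, π C, ?_, ?_, ?_, ?_, ?_, c1, c1.trans c3, ?_, ?_, ?_, ?_⟩
  all_goals try simp only [← map_mul]
  · refine h.ne_one (d := ![1, 1, -1, -1]) ?_ 2 0 rfl rfl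
    rw [hA]; ext j k; fin_cases j <;> fin_cases k <;> rfl
  · rw [← map_one π]
    refine h.eq_of ?_
    rw [map_mul, hA, map_one]; ext j k; fin_cases j <;> fin_cases k <;> simp
  · exact h.eq_of (by rw [map_mul, map_mul, hA, hB]; simp)
  · exact h.eq_of (by rw [map_mul, map_mul, hA, hC]; simp)
  · exact (h.eq_iff _ _).2 ⟨-1, by rw [map_mul, map_mul, hB, hC]; simp⟩
  exacts [c1.trans c2, (c1.trans c2).trans c5, (c1.trans c3).trans c4, ((c1.trans c2).trans c5).trans c6]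

end Cfsg.Agent.FL
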