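import Cfsg.Agent.FL.Neg
import Cfsg.Agent.FL.Pos
import Cfsg.Agent.H10.Isotropic

/-! Project FL: the linear and unitary groups as projective covers. -/

set_option autoImplicit false

namespace Cfsg.Agent.FL

open Matrix

section Cut
variable {K : Type*} [Field K] {n : ℕ} {A B : Matrix (Fin n) (Fin n) K}

theorem sq_sq_aux {M : Matrix (Fin n) (Fin n) K} : M * M * (M * M) = M ^ 4 := by
  rw [show 4 = 2 + 2 from rfl, pow_add, sq]

theorem cut_facts (h2 : (2 : K) ≠ 0) (c : Commute A B) (hA : A ^ 4 = 1) (hB : B ^ 4 = 1) :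
    ∃ e, e = pj (A ^ 2) * pj (B ^ 2) ∧ e * e = e ∧ Commute e A ∧ e * (A * A) = -e := by
  have c1 : Commute (pj (A ^ 2)) (pj (B ^ 2)) := pj_comm (pj_comm (c.pow_pow 2 2).symm).symm
  refine ⟨_, rfl, ?_, (pj_comm ((Commute.refl A).pow_left 2)).mul_left (pj_comm (c.symm.pow_left 2)), ?_⟩
  · exact IsIdempotentElem.mul_of_commute c1 (pj_idem h2 (sq_sq hA)) (pj_idem h2 (sq_sq hB))
  · rw [c1.eq, mul_assoc, ← sq, pj_mul (sq_sq hA), mul_neg]

theorem det_cut (h2 : (2 : K) ≠ 0) (c : Commute A B) (hA : A ^ 4 = 1) (hB : B ^ 4 = 1)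
    (h : ∀ e, e = pj (A ^ 2) * pj (B ^ 2) → e * e = e → Commute e A → (e * A + (1 - e)).det ^ 4 = 1 →
      (e * A + (1 - e)).det ^ 2 = 1) :
    (1 - (2 : K) • (pj (A ^ 2) * pj (B ^ 2))).det = 1 := by
  obtain ⟨e, he, h1, h3, h4⟩ := cut_facts h2 c hA hB
  have e2 : (e * A + (1 - e)) * (e * A + (1 - e)) = e * (A * A) + (1 - e) := cut_mul h1 h3.eq
  have e4 : (e * A + (1 - e)) ^ 4 = 1 := by
    rw [← sq_sq_aux, e2, cut_mul h1 (h3.mul_right h3).eq, sq_sq_aux, hA, mul_one, add_sub_cancel]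
  rw [← he, ← h e he h1 h3 (by rw [← det_pow, e4, det_one]), ← det_pow, sq, e2, h4, two_smul]
  congr 1
  abel

end Cut

section Lin
variable {F : Type*} [Field F] [Fintype F] {n : ℕ}

theorem two_ne (h : Odd (Fintype.card F)) : (2 : F) ≠ 0 := fun e => by
  have := FiniteField.even_card_of_char_two (F := F) (CharP.ringChar_of_prime_eq_zero Nat.prime_two e)
  rw [Nat.odd_iff] at h
  omega

theorem cov_L (h : Odd (Fintype.card F)) :
    Cov (slToMat n F) (QuotientGroup.mk' (Subgroup.center (SpecialLinearGroup (Fin n) F))) where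
  two := two_ne h
  det g := g.2
  surj := QuotientGroup.mk'_surjective _
  ker g := by
    rw [QuotientGroup.mk'_apply, QuotientGroup.eq_one_iff, Matrix.SpecialLinearGroup.mem_center_iff]
    constructor
    · rintro ⟨c, -, hc⟩
      exact ⟨c, hc.symm.trans (by rw [scalar_apply, smul_one_eq_diagonal])⟩
    · rintro ⟨c, hc⟩
      have e : scalar (Fin n) c = g := by rw [scalar_apply, ← smul_one_eq_diagonal]; exact hc.symm
      refine ⟨c, ?_, e⟩
      have := g.2
      rwa [← e, scalar_apply, det_diagonal, Finset.prod_const, Finset.card_univ] at this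

theorem sq_of_four (h : Fintype.card F % 4 = 3) {d : F} (hd : d ^ 4 = 1) : d ^ 2 = 1 := by
  have : (d ^ 2 - 1) * (d ^ 2 + 1) = 0 := by linear_combination hd
  rcases mul_eq_zero.1 this with e | e
  · exact sub_eq_zero.1 e
  · exact absurd h (FiniteField.isSquare_neg_one_iff.1 ⟨d, by linear_combination -e⟩)

theorem sm_L (h : Fintype.card F % 4 = 3) : Sm (slToMat n F) where
  sc _ _ _ := sq_of_four h
  cut _ _ c hA hB := det_cut (two_ne (Nat.odd_iff.2 (by omega))) c hA hB fun _ _ _ _ => sq_of_four h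

theorem big_L (h : Fintype.card F % 4 = 1) : Big (slToMat n F) := by
  obtain ⟨i, hi⟩ := (FiniteField.isSquare_neg_one_iff (F := F)).2 (by omega)
  exact ⟨i, hi.symm, fun M hM _ => ⟨⟨M, hM⟩, rfl⟩⟩

end Lin

section Uni
open H10
variable {F : Type*} [Field F] [Fintype F] {q : ℕ} [hF : Fact (Fintype.card F = q ^ 2)] {n : ℕ}

/-- The unitary group as matrices. -/
abbrev suM (n : ℕ) (F : Type*) [Field F] (q : ℕ) : SU n F q →* Matrix (Fin n) (Fin n) F :=
  (slToMat n F).comp (SU n F q).subtype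

theorem cov_U (hn : 2 ≤ n) (h : Odd q) : Cov (suM n F q) (QuotientGroup.mk' (Subgroup.center (SU n F q))) where
  two := two_ne (hF.out ▸ h.pow)
  det g := g.1.2
  surj := QuotientGroup.mk'_surjective _
  ker g := by rw [QuotientGroup.mk'_apply, QuotientGroup.eq_one_iff, mem_center_SU_iff hn]; rfl

theorem sq_of_norm (h : q % 4 = 1) {d : F} (h1 : d * cj F q d = 1) (hd : d ^ 4 = 1) : d ^ 2 = 1 := by
  rwa [mul_cj_eq_pow, show q + 1 = 4 * (q / 4) + 2 by omega, pow_add, pow_mul, hd, one_pow, one_mul] at h1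

/-- The adjoint matrix. -/
def adj (q : ℕ) [Fact (Fintype.card F = q ^ 2)] (M : Matrix (Fin n) (Fin n) F) : Matrix (Fin n) (Fin n) F :=
  (M.map (cj F q))ᵀ

theorem adj_mul (M N : Matrix (Fin n) (Fin n) F) : adj q (M * N) = adj q N * adj q M := by
  rw [adj, Matrix.map_mul, transpose_mul]; rfl

theorem adj_add (M N : Matrix (Fin n) (Fin n) F) : adj q (M + N) = adj q M + adj q N := by
  ext; simp [adj]

theorem adj_one_sub (M : Matrix (Fin n) (Fin n) F) : adj q (1 - M) = 1 - adj q M := by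
  ext i j; by_cases h : i = j <;> simp [adj, h, one_apply, eq_comm]

theorem adj_pj (M : Matrix (Fin n) (Fin n) F) : adj q (pj M) = pj (adj q M) := by
  rw [pj, pj, ← adj_one_sub]
  ext; simp [adj, map_ofNat]

theorem isIsom_adj (M : Matrix (Fin n) (Fin n) F) : IsIsom q M ↔ M * adj q M = 1 := by
  rw [isIsom_iff, mul_eq_one_comm, ← transpose_inj, transpose_mul, transpose_transpose, transpose_one]; rfl

theorem adj_eq {M : Matrix (Fin n) (Fin n) F} (h : IsIsom q M) (h4 : M ^ 4 = 1) :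
    adj q M = M ^ 3 ∧ adj q (M ^ 2) = M ^ 2 := by
  have e : adj q M = M ^ 3 := by
    rw [← one_mul (adj q M), ← h4, pow_succ, mul_assoc, (isIsom_adj M).1 h, mul_one]
  refine ⟨e, ?_⟩
  rw [sq M, adj_mul, e, ← pow_add, show 3 + 3 = 4 + 2 from rfl, pow_add, h4, one_mul, sq]

theorem sm_U (hn : 2 ≤ n) (h : q % 4 = 1) : Sm (suM n F q) where
  sc g c e := sq_of_norm h ((isIsom_smul_one_iff (n := n) (by omega)).1 (e ▸ sm_isIsom g))
  cut A B c hA hB := det_cut (two_ne (hF.out ▸ (Nat.odd_iff.2 (by omega)).pow)) c hA hB fun e he h1 h3 => by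
    refine sq_of_norm h (IsIsom.det_mul_cj ((isIsom_adj _).2 ?_))
    have a1 := adj_eq (sm_isIsom A) hA
    have a2 := adj_eq (sm_isIsom B) hB
    have ae : adj q e = e := by
      rw [he, adj_mul, adj_pj, adj_pj]
      exact (congrArg₂ (fun x y => pj x * pj y) a2.2 a1.2).trans
        (pj_comm (pj_comm (c.pow_pow 2 2)).symm).eq
    rw [adj_add, adj_mul, adj_one_sub, ae, show adj q (suM n F q A) = suM n F q A ^ 3 from a1.1, ← (h3.pow_right 3).eq,
      cut_mul h1 h3.eq, ← pow_succ', hA, mul_one, add_sub_cancel]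

theorem big_U (h : q % 4 = 3) : Big (suM n F q) := by
  obtain ⟨i, hi⟩ := (FiniteField.isSquare_neg_one_iff (F := F)).2 (by
    rw [hF.out, Nat.pow_mod, h]; norm_num)
  refine ⟨i, hi.symm, fun M hM hσ => ⟨mkSU M ((isIsom_iff M).2 (hσ _ ?_)) hM, rfl⟩⟩
  rw [cj_apply, show q = 2 * (2 * (q / 4) + 1) + 1 by omega, pow_succ, pow_mul, sq, ← hi,
    Odd.neg_one_pow ⟨_, rfl⟩, neg_one_mul]

end Uni

/-- The invariant that separates the two families. -/
def Inv (n : ℕ) (G : Type*) [Group G] : Prop :=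
  (n = 3 → Sq2 G) ∧ (n = 4 → Pure G) ∧ (n = 5 → Sq3 G)

theorem Emb.inv {n : ℕ} {G H : Type*} [Group G] [Group H] (h : Emb G H) (e : Inv n G) : Inv n H :=
  ⟨fun k => h.sq2 (e.1 k), fun k => h.pure (e.2.1 k), fun k => h.sq3 (e.2.2 k)⟩

variable {K : Type*} [Field K] {n : ℕ} {Γ X : Type*} [Group Γ] [Group X]
  {ρ : Γ →* Matrix (Fin n) (Fin n) K} {π : Γ →* X}

theorem Cov.inv (h : Cov ρ π) (hb : Big ρ) : Inv n X :=
  ⟨fun k => by subst k; exact h.sq2 hb, fun k => by subst k; exact h.pure hb, fun k => by subst k; exact h.sq3 hb⟩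

theorem Cov.not_inv (h : Cov ρ π) (hn : 3 ≤ n ∧ n ≤ 5) (hs : Sm ρ) : ¬ Inv n X := fun e => by
  obtain rfl | rfl | rfl : n = 3 ∨ n = 4 ∨ n = 5 := by omega
  exacts [h.no_sq2 hs (e.1 rfl), h.no_pure hs (e.2.1 rfl), h.no_sq3 hs (e.2.2 rfl)]

theorem inv_L (hn : 3 ≤ n ∧ n ≤ 5) {F : Type*} [Field F] [Fintype F] (h : Odd (Fintype.card F)) :
    Inv n (ProjectiveSpecialLinearGroup (Fin n) F) ↔ Fintype.card F % 4 = 1 := by
  refine ⟨fun e => ?_, fun e => (cov_L h).inv (big_L e)⟩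
  by_contra k
  rw [Nat.odd_iff] at h
  exact (cov_L (Nat.odd_iff.2 h)).not_inv hn (sm_L (by omega)) e

theorem inv_U (hn : 3 ≤ n ∧ n ≤ 5) {F : Type*} [Field F] [Fintype F] {q : ℕ} (hF : Fintype.card F = q ^ 2)
    (h : Odd q) : Inv n (PSU n F q) ↔ q % 4 = 3 := by
  have : Fact (Fintype.card F = q ^ 2) := ⟨hF⟩
  refine ⟨fun e => ?_, fun e => (cov_U (by omega) h).inv (big_U e)⟩
  by_contra k
  rw [Nat.odd_iff] at h
  exact (cov_U (by omega) (Nat.odd_iff.2 h)).not_inv hn (sm_U (by omega) (by omega)) e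

theorem no_sev_L {F : Type*} [Field F] [Fintype F] (h : Odd (Fintype.card F)) :
    ¬ Sev (ProjectiveSpecialLinearGroup (Fin 4) F) := (cov_L h).no_sev

end Cfsg.Agent.FL
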