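import Cfsg.Agent.FL.Defs

/-! Project FL: commuting involutions are simultaneously diagonal; projective covers. -/

set_option autoImplicit false

namespace Cfsg.Agent.FL

open Matrix

variable {K : Type*} [Field K] {n : ℕ}

/-- The sign of a bit. -/
def sg (K : Type*) [Field K] (b : Bool) : K := if b then -1 else 1

/-- The diagonal sign matrix. -/
def ds (K : Type*) [Field K] {n : ℕ} (a : Fin n → Bool) : Matrix (Fin n) (Fin n) K := diagonal fun j => sg K (a j)

/-- The support has even size. -/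
def ev (a : Fin n → Bool) : Prop := Even (Finset.univ.filter fun j => a j = true).card

instance decEv (a : Fin n → Bool) : Decidable (ev a) := inferInstanceAs (Decidable (Even _))

theorem sg_mul (a b : Bool) : sg K a * sg K b = sg K (xor a b) := by
  cases a <;> cases b <;> simp [sg]

theorem ds_mul (a b : Fin n → Bool) : ds K a * ds K b = ds K fun j => xor (a j) (b j) := by
  simp only [ds, diagonal_mul_diagonal, sg_mul]

theorem neg_one_ne (h2 : (2 : K) ≠ 0) : (-1 : K) ≠ 1 := fun h => h2 (by linear_combination -h)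

theorem sg_inj (h2 : (2 : K) ≠ 0) {a b : Bool} (h : sg K a = sg K b) : a = b := by
  have := neg_one_ne h2
  cases a <;> cases b <;> simp_all [sg, eq_comm]

theorem ev_of_det (h2 : (2 : K) ≠ 0) {a : Fin n → Bool} (h : (ds K a).det = 1) : ev a := by
  rw [ds, det_diagonal] at h
  simp only [sg, Finset.prod_ite, Finset.prod_const, one_pow, mul_one] at h
  exact (neg_one_pow_eq_one_iff_even (neg_one_ne h2)).1 h

theorem ds_const {a : Fin n → Bool} {b : Bool} (h : ∀ j, a j = b) : ds K a = sg K b • 1 := by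
  rw [ds, smul_one_eq_diagonal]; simp only [h]

theorem split_inv (h2 : (2 : K) ≠ 0) {A : Matrix (Fin n) (Fin n) K} (hA : A * A = 1)
    (W : Submodule K (Fin n → K)) (p : (Fin n → K) → Prop) (hp : ∀ v (c : K), p v → p (v + c • A *ᵥ v))
    (h : ∀ v b, p v → A *ᵥ v = sg K b • v → v ∈ W) {v : Fin n → K} (hv : p v) : v ∈ W := by
  have key : ∀ b, A *ᵥ (v + sg K b • A *ᵥ v) = sg K b • (v + sg K b • A *ᵥ v) := fun b => by
    rw [mulVec_add, mulVec_smul, mulVec_mulVec, hA, one_mulVec, smul_add, smul_smul, sg_mul, add_comm]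
    simp [sg]
  have e : v = (2 : K)⁻¹ • ((v + sg K true • A *ᵥ v) + (v + sg K false • A *ᵥ v)) := by
    have : (v + sg K true • A *ᵥ v) + (v + sg K false • A *ᵥ v) = (2 : K) • v := by
      simp only [sg, if_true, Bool.false_eq_true, if_false, neg_smul, one_smul, two_smul]; abel
    rw [this, smul_smul, inv_mul_cancel₀ h2, one_smul]
  rw [e]
  exact W.smul_mem _ (W.add_mem (h _ true (hp _ _ hv) (key _)) (h _ false (hp _ _ hv) (key _)))

theorem eig_add {A B : Matrix (Fin n) (Fin n) K} (c : A * B = B * A) {v : Fin n → K} {s : K}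
    (h : A *ᵥ v = s • v) (t : K) : A *ᵥ (v + t • B *ᵥ v) = s • (v + t • B *ᵥ v) := by
  rw [mulVec_add, mulVec_smul, mulVec_mulVec, c, ← mulVec_mulVec, h, mulVec_smul, smul_add, smul_comm t]

/-- Conjugation as an algebra map. -/
def cA {P Q : Matrix (Fin n) (Fin n) K} (hQ : Q * P = 1) (hQ' : P * Q = 1) :
    Matrix (Fin n) (Fin n) K →ₐ[K] Matrix (Fin n) (Fin n) K where
  toFun M := Q * M * P
  map_one' := by rw [mul_one, hQ]
  map_mul' M N := by
    rw [show Q * M * P * (Q * N * P) = Q * M * (P * Q) * N * P by simp only [mul_assoc], hQ']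
    simp only [mul_assoc, one_mul]
  map_zero' := by simp
  map_add' M N := by rw [mul_add, add_mul]
  commutes' c := by
    rw [Algebra.algebraMap_eq_smul_one, Matrix.mul_smul, mul_one, Matrix.smul_mul, hQ]

theorem diag3 (h2 : (2 : K) ≠ 0) {A B C : Matrix (Fin n) (Fin n) K} (hA : A * A = 1) (hB : B * B = 1)
    (hC : C * C = 1) (c1 : A * B = B * A) (c2 : A * C = C * A) (c3 : B * C = C * B) :
    ∃ (f : Matrix (Fin n) (Fin n) K →ₐ[K] Matrix (Fin n) (Fin n) K) (a b c : Fin n → Bool),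
      Function.Injective f ∧ (∀ M, (f M).det = M.det) ∧ f A = ds K a ∧ f B = ds K b ∧ f C = ds K c := by
  have hs : ⊤ ≤ Submodule.span K {v : Fin n → K | ∃ s : Bool × Bool × Bool, A *ᵥ v = sg K s.1 • v ∧
      B *ᵥ v = sg K s.2.1 • v ∧ C *ᵥ v = sg K s.2.2 • v} := fun v _ =>
    split_inv h2 hA _ (fun _ => True) (fun _ _ _ => trivial) (fun v a _ ha =>
      split_inv h2 hB _ (fun v => A *ᵥ v = sg K a • v) (fun _ t h => eig_add c1 h t) (fun v b ha hb =>
        split_inv h2 hC _ (fun v => A *ᵥ v = sg K a • v ∧ B *ᵥ v = sg K b • v)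
          (fun _ t h => ⟨eig_add c2 h.1 t, eig_add c3 h.2 t⟩)
          (fun v c h hc => Submodule.subset_span (Exists.intro (a, b, c) (And.intro h.1 (And.intro h.2 hc)))) ⟨ha, hb⟩) ha) trivial
  let b0 := Module.Basis.ofSpan hs
  let b := b0.reindex (b0.indexEquiv (Pi.basisFun K (Fin n)))
  have hb : ∀ k, ∃ s : Bool × Bool × Bool, A *ᵥ b k = sg K s.1 • b k ∧
      B *ᵥ b k = sg K s.2.1 • b k ∧ C *ᵥ b k = sg K s.2.2 • b k := fun k => by
    rw [Module.Basis.reindex_apply]
    exact Module.Basis.ofSpan_subset hs ⟨_, rfl⟩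
  choose s hs using hb
  have hu : IsUnit (Matrix.of fun i j => b j i) := linearIndependent_cols_iff_isUnit.1 b.linearIndependent
  obtain ⟨Q, hQ, hQ'⟩ : ∃ Q, Q * (Matrix.of fun i j => b j i) = 1 ∧ (Matrix.of fun i j => b j i) * Q = 1 :=
    ⟨_, hu.val_inv_mul, hu.mul_val_inv⟩
  set P : Matrix (Fin n) (Fin n) K := Matrix.of fun i j => b j i with hP
  let f := cA hQ hQ'
  have hf : ∀ M, f M = Q * M * P := fun _ => rfl
  have key : ∀ (D : Matrix (Fin n) (Fin n) K) (d : Fin n → Bool), (∀ k, D *ᵥ b k = sg K (d k) • b k) →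
      f D = ds K d := fun D d hd => by
    have : D * P = P * ds K d := by
      ext k l
      rw [ds, mul_diagonal, hP, of_apply, mul_comm]
      exact congrFun (hd l) k
    rw [hf, mul_assoc, this, ← mul_assoc, hQ, one_mul]
  refine ⟨f, fun k => (s k).1, fun k => (s k).2.1, fun k => (s k).2.2, fun M N e => ?_, fun M => ?_,
    key _ _ fun k => (hs k).1, key _ _ fun k => (hs k).2.1, key _ _ fun k => (hs k).2.2⟩
  · have : ∀ M, P * f M * Q = M := fun M => by
      rw [hf, show P * (Q * M * P) * Q = P * Q * M * (P * Q) by simp only [mul_assoc], hQ', one_mul, mul_one]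
    rw [← this M, e, this]
  · rw [hf, det_mul, det_mul, mul_right_comm, ← det_mul, hQ, det_one, one_mul]

theorem wt {N : Matrix (Fin n) (Fin n) K} (h : N.det ≠ 0) : ∃ τ : Fin n → Fin n,
    ∀ d d' : Fin n → K, N * diagonal d = diagonal d' * N → ∀ k, d' (τ k) = d k := by
  rw [det_apply'] at h
  obtain ⟨τ, -, hτ⟩ := Finset.exists_ne_zero_of_sum_ne_zero h
  have h1 : ∀ k, N (τ k) k ≠ 0 := fun k =>
    Finset.prod_ne_zero_iff.1 (right_ne_zero_of_mul hτ) k (Finset.mem_univ k)
  refine ⟨τ, fun d d' e k => ?_⟩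
  have := congrFun (congrFun e (τ k)) k
  rw [diagonal_mul, mul_diagonal, mul_comm] at this
  exact (mul_right_cancel₀ (h1 k) this).symm

/-- The projection on the `-1` eigenspace. -/
def pj (u : Matrix (Fin n) (Fin n) K) : Matrix (Fin n) (Fin n) K := (2 : K)⁻¹ • (1 - u)

theorem pj_ds (h2 : (2 : K) ≠ 0) (a b : Fin n → Bool) :
    1 - (2 : K) • (pj (ds K a) * pj (ds K b)) = ds K fun j => a j && b j := by
  simp only [pj, ds, ← diagonal_one, ← diagonal_smul, diagonal_sub, diagonal_mul_diagonal]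
  congr 1
  funext j
  simp only [Pi.smul_apply, smul_eq_mul]
  cases a j <;> cases b j <;> simp [sg] <;> field_simp <;> norm_num

theorem pj_idem (h2 : (2 : K) ≠ 0) {u : Matrix (Fin n) (Fin n) K} (h : u * u = 1) : pj u * pj u = pj u := by
  have : (1 - u) * (1 - u) = (2 : K) • (1 - u) := by
    rw [two_smul, sub_mul, mul_sub, mul_sub, h, one_mul, mul_one, one_mul]; abel
  rw [pj, smul_mul_smul_comm, this, smul_smul, mul_assoc, inv_mul_cancel₀ h2, mul_one]

theorem pj_mul {u : Matrix (Fin n) (Fin n) K} (h : u * u = 1) : pj u * u = -pj u := by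
  rw [pj, Matrix.smul_mul, sub_mul, h, one_mul, ← smul_neg, neg_sub]

theorem pj_comm {u A : Matrix (Fin n) (Fin n) K} (h : Commute u A) : Commute (pj u) A :=
  (((Commute.one_left A).sub_left h).smul_left _)

theorem cut_mul {e S T : Matrix (Fin n) (Fin n) K} (he : e * e = e) (hS : e * S = S * e) :
    (e * S + (1 - e)) * (e * T + (1 - e)) = e * (S * T) + (1 - e) := by
  have h1 : e * S * e = e * S := by rw [mul_assoc, ← hS, ← mul_assoc, he]
  have h2 : e * S * (e * T) = e * (S * T) := by rw [← mul_assoc, h1, mul_assoc]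
  have h3 : e * (e * T) = e * T := by rw [← mul_assoc, he]
  simp only [add_mul, mul_add, sub_mul, mul_sub, one_mul, mul_one, h1, h2, h3, he]
  abel

variable {Γ X : Type*} [Group Γ] [Group X]

/-- `X` is the projective image of the matrix group `Γ` of determinant one. -/
structure Cov (ρ : Γ →* Matrix (Fin n) (Fin n) K) (π : Γ →* X) : Prop where
  two : (2 : K) ≠ 0
  det : ∀ g, (ρ g).det = 1
  surj : Function.Surjective π
  ker : ∀ g, π g = 1 ↔ ∃ c : K, ρ g = c • 1

/-- The case `a = 1`. -/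
structure Sm (ρ : Γ →* Matrix (Fin n) (Fin n) K) : Prop where
  sc : ∀ g (c : K), ρ g = c • 1 → c ^ 4 = 1 → c ^ 2 = 1
  cut : ∀ A B : Γ, Commute (ρ A) (ρ B) → ρ A ^ 4 = 1 → ρ B ^ 4 = 1 →
    (1 - (2 : K) • (pj (ρ A ^ 2) * pj (ρ B ^ 2))).det = 1

/-- The case `a ≥ 2`. -/
def Big (ρ : Γ →* Matrix (Fin n) (Fin n) K) : Prop :=
  ∃ i : K, i * i = -1 ∧ ∀ M : Matrix (Fin n) (Fin n) K, M.det = 1 →
    (∀ σ : K →+* K, σ i = -i → Mᵀ * M.map σ = 1) → ∃ g, ρ g = M

variable {ρ : Γ →* Matrix (Fin n) (Fin n) K} {π : Γ →* X}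

theorem Cov.eq_iff (h : Cov ρ π) (a b : Γ) : π a = π b ↔ ∃ c : K, ρ a = c • ρ b := by
  rw [← mul_inv_eq_one, ← map_inv, ← map_mul, h.ker]
  refine exists_congr fun c => ⟨fun e => ?_, fun e => ?_⟩
  · rw [← inv_mul_cancel_right a b, map_mul, e, Matrix.smul_mul, one_mul]
  · rw [map_mul, e, Matrix.smul_mul, ← map_mul, mul_inv_cancel, map_one]

theorem Cov.pow_eq (h : Cov ρ π) {a b : Γ} {c : K} (e : ρ a = c • ρ b) : c ^ n = 1 := by
  have := h.det a
  rwa [e, det_smul, h.det, mul_one, Fintype.card_fin] at this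

theorem Cov.cancel (h : Cov ρ π) (hn : 0 < n) {a : Γ} {c d : K} (e : c • ρ a = d • ρ a) : c = d := by
  have h1 : (c - d) • ρ a = 0 := by rw [sub_smul, e, sub_self]
  rcases smul_eq_zero.1 h1 with h2 | h2
  · exact sub_eq_zero.1 h2
  · have : Nonempty (Fin n) := ⟨⟨0, hn⟩⟩
    have h3 := h.det a
    rw [h2, det_zero] at h3
    exact absurd h3 zero_ne_one

/-- Conjugation by an element of the group. -/
theorem exists_cA (ρ : Γ →* Matrix (Fin n) (Fin n) K) (g : Γ) :
    ∃ κ : Matrix (Fin n) (Fin n) K →ₐ[K] Matrix (Fin n) (Fin n) K,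
      (∀ a, κ (ρ a) = ρ (g * a * g⁻¹)) ∧ ∀ M, ρ g * M = κ M * ρ g := by
  have h1 : ρ g * ρ g⁻¹ = 1 := by rw [← map_mul, mul_inv_cancel, map_one]
  have h2 : ρ g⁻¹ * ρ g = 1 := by rw [← map_mul, inv_mul_cancel, map_one]
  refine ⟨cA h1 h2, fun a => by rw [map_mul, map_mul]; rfl, fun M => ?_⟩
  change _ = ρ g * M * ρ g⁻¹ * ρ g
  rw [mul_assoc, h2, mul_one]

end Cfsg.Agent.FL
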