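import Cfsg.Agent.FL.Lin

/-! Project FL: configurations that do not occur in the projective groups. -/

set_option autoImplicit false

namespace Cfsg.Agent.FL

open Matrix

variable {K : Type*} [Field K] {n : ℕ} {Γ X : Type*} [Group Γ] [Group X]
  {ρ : Γ →* Matrix (Fin n) (Fin n) K} {π : Γ →* X}

/-- The Singer cycle on weights. -/
def sing (v : Bool × Bool × Bool) : Bool × Bool × Bool := (xor v.1 v.2.2, v.1, v.2.1)

theorem sing_inj : ∀ v : Bool × Bool × Bool, v.1 = true →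
    ∀ i j : Fin 5, sing^[i] v = sing^[j] v → i = j := by decide

theorem no_orbit (v : Fin 4 → Bool × Bool × Bool) (τ : Fin 4 → Fin 4) (h : ∀ k, v (τ k) = sing (v k))
    (k : Fin 4) : (v k).1 = false := by
  by_contra hk
  have e : ∀ i : ℕ, v (τ^[i] k) = sing^[i] (v k) := fun i => by
    induction i with
    | zero => rfl
    | succ i ih => rw [Function.iterate_succ_apply', Function.iterate_succ_apply', h, ih]
  have := Fintype.card_le_of_injective (fun i : Fin 5 => τ^[i] k) fun i j hij =>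
    sing_inj (v k) (by simpa using hk) i j (by rw [← e, ← e]; exact congrArg v hij)
  simp at this

theorem Cov.pow_sc (h : Cov ρ π) {a : Γ} {c : K} (e : ρ a = c • 1) : c ^ n = 1 :=
  h.pow_eq (a := a) (b := 1) (by rw [map_one, e])

theorem Cov.no_sev {ρ : Γ →* Matrix (Fin 4) (Fin 4) K} (h : Cov ρ π) : ¬ Sev X := by
  rintro ⟨x, y, w, g, h1, h2, h3, h4, e1, e2, e3⟩
  obtain ⟨A, rfl⟩ := h.surj x
  obtain ⟨g, rfl⟩ := h.surj g
  obtain ⟨κ, hκ, hκ'⟩ := exists_cA ρ g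
  obtain ⟨B, hB⟩ : ∃ B, B = g * A * g⁻¹ := ⟨_, rfl⟩
  obtain ⟨C, hC⟩ : ∃ C, C = g * B * g⁻¹ := ⟨_, rfl⟩
  obtain rfl : π B = y := by rw [hB, map_mul, map_mul, map_inv, e1]
  obtain rfl : π C = w := by rw [hC, map_mul, map_mul, map_inv, e2]
  have k1 : κ (ρ A) = ρ B := by rw [hκ, hB]
  have k2 : κ (ρ B) = ρ C := by rw [hκ, hC]
  obtain ⟨c, k3⟩ := (h.eq_iff (g * C * g⁻¹) (A * B)).1 (by simpa only [map_mul, map_inv] using e3)
  have c0 : c ≠ 0 := fun e => by simpa [e] using h.pow_eq k3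
  rw [← hκ, map_mul] at k3
  obtain ⟨s, hs⟩ := (h.ker (A * A)).1 (by rw [map_mul, h2])
  have s0 : s ≠ 0 := fun e => by have := h.pow_sc hs; simp [e] at this
  obtain ⟨α, hα⟩ := (h.eq_iff (A * B) (B * A)).1 (by rw [map_mul, map_mul, h3])
  obtain ⟨β, hβ⟩ := (h.eq_iff (A * C) (C * A)).1 (by rw [map_mul, map_mul, h4])
  simp only [map_mul] at hs hα hβ
  have hγ : ρ B * ρ C = α • (ρ C * ρ B) := by
    have := congrArg κ hα
    simpa only [map_mul, map_smul, k1, k2] using this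
  have αβ : β * α = 1 := by
    have := congrArg κ hβ
    simp only [map_mul, map_smul, k1, k3, Matrix.mul_smul, Matrix.smul_mul] at this
    rw [← mul_assoc, hα, Matrix.smul_mul, smul_smul, smul_smul, ← map_mul, ← map_mul] at this
    have := h.cancel (by norm_num) this
    exact mul_left_cancel₀ c0 (by linear_combination -this)
  have α1 : α = 1 := by
    have := congrArg κ hγ
    simp only [map_mul, map_smul, k2, k3, Matrix.mul_smul, Matrix.smul_mul] at this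
    rw [mul_assoc, hγ, Matrix.mul_smul, ← mul_assoc (ρ A), hβ, Matrix.smul_mul, mul_assoc] at this
    simp only [smul_smul, ← map_mul] at this
    have := h.cancel (by norm_num) this
    exact mul_left_cancel₀ c0 (by linear_combination -this - c * α * αβ)
  obtain rfl : β = 1 := by rw [α1, mul_one] at αβ; exact αβ
  subst α1
  rw [one_smul] at hα hβ hγ
  have sB : ρ B * ρ B = s • 1 := by simpa only [map_mul, map_smul, map_one, k1] using congrArg κ hs
  have sC : ρ C * ρ C = s • 1 := by simpa only [map_mul, map_smul, map_one, k2] using congrArg κ sB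
  have cs : c * c * s = 1 := by
    have := congrArg κ sC
    simp only [map_mul, map_smul, map_one, k3, smul_mul_smul_comm] at this
    rw [mul_assoc, ← mul_assoc (ρ B), ← hα, mul_assoc, sB, ← mul_assoc, hs, smul_mul_smul_comm, mul_one,
      smul_smul, ← map_one ρ] at this
    exact mul_left_cancel₀ s0 (by linear_combination h.cancel (by norm_num) this)
  have sq : ∀ M : Matrix (Fin 4) (Fin 4) K, M * M = s • 1 → (c • M) * (c • M) = 1 := fun M e => by
    rw [smul_mul_smul_comm, e, smul_smul, cs, one_smul]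
  have cm : ∀ M N : Matrix (Fin 4) (Fin 4) K, M * N = N * M → (c • M) * (c • N) = (c • N) * (c • M) :=
    fun M N e => by rw [smul_mul_smul_comm, smul_mul_smul_comm, e]
  obtain ⟨f, a, b, d, hf, hd, fa, fb, fd⟩ :=
    diag3 h.two (sq _ hs) (sq _ sB) (sq _ sC) (cm _ _ hα) (cm _ _ hβ) (cm _ _ hγ)
  obtain ⟨τ, hτ⟩ := wt (N := f (ρ g)) (by rw [hd, h.det]; exact one_ne_zero)
  have t1 := hτ _ _ (show f (ρ g) * ds K a = ds K b * f (ρ g) by
    rw [← fa, ← fb, ← map_mul, ← map_mul, hκ', map_smul, k1])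
  have t2 := hτ _ _ (show f (ρ g) * ds K b = ds K d * f (ρ g) by
    rw [← fb, ← fd, ← map_mul, ← map_mul, hκ', map_smul, k2])
  have t3 := hτ _ _ (show f (ρ g) * ds K d = ds K (fun j => xor (a j) (b j)) * f (ρ g) by
    rw [← ds_mul, ← fa, ← fb, ← fd, ← map_mul, ← map_mul, ← map_mul, hκ', map_smul, k3,
      smul_mul_smul_comm, smul_smul])
  have z := no_orbit (fun k => (a k, b k, d k)) τ fun k => by
    have u1 := sg_inj h.two (t1 k)
    have u2 := sg_inj h.two (t2 k)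
    have u3 := sg_inj h.two (t3 k)
    simp only [sing, ← u1, ← u2, ← u3, Prod.mk.injEq, and_true]
    cases a (τ k) <;> cases b (τ k) <;> rfl
  refine h1 ((h.ker A).2 ⟨c⁻¹, ?_⟩)
  have : c • ρ A = 1 := hf (by rw [fa, ds_const z, map_one]; simp [sg])
  rw [← this, smul_smul, inv_mul_cancel₀ c0, one_smul]

/-- Not constant. -/
def nc (a : Fin n → Bool) : Prop := ¬ (∀ j, a j = true) ∧ ¬ ∀ j, a j = false

instance decNc (a : Fin n → Bool) : Decidable (nc a) := inferInstanceAs (Decidable (_ ∧ _))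

/-- Sum of bit vectors. -/
def xr (a b : Fin n → Bool) : Fin n → Bool := fun j => xor (a j) (b j)

/-- Product of bit vectors. -/
def nd (a b : Fin n → Bool) : Fin n → Bool := fun j => a j && b j

theorem code4 : ∀ a : Fin 4 → Bool, ev a → nc a → ∀ b : Fin 4 → Bool, ev b → nc b → nc (xr a b) →
    ∀ c : Fin 4 → Bool, ev c → nc c → nc (xr a c) → nc (xr b c) → ¬ nc (xr (xr a b) c) := by
  decide +kernel

theorem code3 : ∀ a : Fin 3 → Bool, ev a → nc a → ∀ b : Fin 3 → Bool, ev b → nc b → ev (nd a b) →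
    ¬ nc (xr a b) := by
  decide +kernel

set_option synthInstance.maxSize 2000 in
theorem code5 : ∀ a : Fin 5 → Bool, ev a → nc a → ∀ b : Fin 5 → Bool, ev b → nc b → ev (nd a b) →
    nc (xr a b) → ∀ c : Fin 5 → Bool, ev c → nc c → ev (nd a c) → ev (nd b c) → nc (xr a c) →
      nc (xr b c) → ¬ nc (xr (xr a b) c) := by
  decide +kernel

theorem Cov.nc (h : Cov ρ π) {f : Matrix (Fin n) (Fin n) K →ₐ[K] Matrix (Fin n) (Fin n) K}
    (hf : Function.Injective f) {g : Γ} (hg : π g ≠ 1) {a : Fin n → Bool} (e : f (ρ g) = ds K a) : nc a :=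
  ⟨fun k => hg ((h.ker g).2 ⟨_, hf (by rw [e, ds_const k, map_smul, map_one])⟩),
    fun k => hg ((h.ker g).2 ⟨_, hf (by rw [e, ds_const k, map_smul, map_one])⟩)⟩

theorem comm_of_sq {R : Type*} [Ring R] {A B s : R} (hs : s * s = 1) (c1 : ∀ M, s * M = M * s)
    (hA : A * A = s) (hB : B * B = s) (hC : A * B * (A * B) = s) : B * A = s * (A * B) := by
  calc B * A = (s * s) * (B * A) := by rw [hs, one_mul]
    _ = s * (B * A) * s := by rw [mul_assoc, mul_assoc s (B * A), ← c1 (B * A)]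
    _ = A * (A * B * (A * B)) * B := by nth_rewrite 1 [← hA]; rw [← hB]; simp only [mul_assoc]
    _ = s * (A * B) := by rw [hC, ← c1, mul_assoc]

theorem Cov.no_pure {ρ : Γ →* Matrix (Fin 4) (Fin 4) K} (h : Cov ρ π) (hs : Sm ρ) : ¬ Pure X := by
  rintro ⟨x, y, w, h1, h2, -, -, -, c1, c2, c3, c4, c5, c6⟩
  obtain ⟨A, rfl⟩ := h.surj x
  obtain ⟨B, rfl⟩ := h.surj y
  obtain ⟨C, rfl⟩ := h.surj w
  simp only [← map_mul] at h2 c3 c4 c5 c6
  obtain ⟨s, sA⟩ := (h.ker _).1 h2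
  have s2 : s ^ 2 = 1 := hs.sc _ s sA (h.pow_sc sA)
  rw [map_mul] at sA
  have key : ∀ D, IsConj (π A) (π D) → ρ D * ρ D = s • 1 ∧ π D ≠ 1 := fun D hD => by
    refine ⟨?_, fun e => h1 (isConj_one_left.1 (e ▸ hD))⟩
    obtain ⟨g, hg⟩ := isConj_iff.1 hD
    obtain ⟨g, rfl⟩ := h.surj g
    obtain ⟨κ, hκ, -⟩ := exists_cA ρ g
    obtain ⟨c, hc⟩ := (h.ker (D * (g * A * g⁻¹)⁻¹)).1 (by simp only [map_mul, map_inv, hg, mul_inv_cancel])
    have c2 : c ^ 2 = 1 := hs.sc _ c hc (h.pow_sc hc)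
    have : ρ D = c • κ (ρ A) := by
      rw [hκ, ← inv_mul_cancel_right D (g * A * g⁻¹), map_mul, hc, Matrix.smul_mul, one_mul]
    rw [this, smul_mul_smul_comm, ← map_mul, sA, map_smul, map_one, ← sq, c2, one_smul]
  have ss : (s • (1 : Matrix (Fin 4) (Fin 4) K)) * (s • 1) = 1 := by
    rw [smul_mul_smul_comm, mul_one, ← sq, s2, one_smul]
  have sc : ∀ M : Matrix (Fin 4) (Fin 4) K, (s • 1) * M = M * (s • 1) := fun M => by
    rw [Matrix.smul_mul, Matrix.mul_smul, one_mul, mul_one]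
  have sB := (key B c1).1
  have sC := (key C c2).1
  have e1 := comm_of_sq ss sc sA sB (by simpa only [map_mul] using (key _ c3).1)
  have e2 := comm_of_sq ss sc sA sC (by simpa only [map_mul] using (key _ c4).1)
  have e3 := comm_of_sq ss sc sB sC (by simpa only [map_mul] using (key _ c5).1)
  rcases sq_eq_one_iff.1 s2 with rfl | rfl
  · simp only [one_smul, one_mul] at sA sB sC e1 e2 e3
    obtain ⟨f, a, b, c, hf, hd, fa, fb, fc⟩ := diag3 h.two sA sB sC e1.symm e2.symm e3.symm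
    have v : ∀ g d, f (ρ g) = ds K d → ev d := fun g d e => ev_of_det h.two (by rw [← e, hd, h.det])
    refine code4 a (v _ _ fa) (h.nc hf h1 fa) b (v _ _ fb) (h.nc hf (key _ c1).2 fb)
      (h.nc hf (key _ c3).2 ?_) c (v _ _ fc) (h.nc hf (key _ c2).2 fc) (h.nc hf (key _ c4).2 ?_)
      (h.nc hf (key _ c5).2 ?_) (h.nc hf (key _ c6).2 ?_)
    all_goals simp only [map_mul, fa, fb, fc, ds_mul]; rfl
  · have e4 := (key _ c6).1
    have e5 := (key _ c5).1
    simp only [map_mul, neg_smul, one_smul, neg_mul, one_mul] at sA e1 e2 e4 e5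
    have : ρ A * ρ B * ρ C * (ρ A * ρ B * ρ C) = 1 := by
      calc _ = ρ A * (ρ B * (ρ C * ρ A)) * (ρ B * ρ C) := by simp only [mul_assoc]
        _ = ρ A * ρ A * (ρ B * ρ C * (ρ B * ρ C)) := by
          rw [e2, mul_neg, ← mul_assoc (ρ B), e1]; simp only [neg_mul, neg_neg, mul_assoc]
        _ = 1 := by rw [sA, e5]; simp
    rw [this] at e4
    exact neg_one_ne h.two (by simpa using (congrFun (congrFun e4 0) 0).symm)

theorem pow_odd_sq {M : Type*} [Monoid M] (hn : Odd n) {x : M} (h : x ^ 4 = 1) : x ^ (n * n) = x := by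
  obtain ⟨k, rfl⟩ := hn
  rw [show (2 * k + 1) * (2 * k + 1) = 4 * (k * k + k) + 1 by ring, pow_succ, pow_mul, h, one_pow, one_mul]

theorem Cov.lift4 (h : Cov ρ π) (hn : Odd n) {x : X} (hx : x ^ 4 = 1) : ∃ A, π A = x ∧ ρ A ^ 4 = 1 := by
  obtain ⟨A, rfl⟩ := h.surj x
  obtain ⟨c, hc⟩ := (h.ker (A ^ 4)).1 (by rw [map_pow, hx])
  refine ⟨A ^ (n * n), by rw [map_pow, pow_odd_sq hn hx], ?_⟩
  rw [← map_pow, ← pow_mul, mul_comm, pow_mul, map_pow, hc, smul_pow, one_pow, pow_mul,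
    h.pow_sc hc, one_pow, one_smul]

theorem Cov.comm4 (h : Cov ρ π) (hn : Odd n) {A B : Γ} (hA : ρ A ^ 4 = 1)
    (e : π A * π B = π B * π A) : Commute (ρ A) (ρ B) := by
  obtain ⟨c, hc⟩ := (h.eq_iff (A * B) (B * A)).1 (by rw [map_mul, map_mul, e])
  have cn := h.pow_eq hc
  rw [map_mul, map_mul] at hc
  have k : ∀ i : ℕ, ρ A ^ i * ρ B = c ^ i • (ρ B * ρ A ^ i) := fun i => by
    induction i with
    | zero => simp
    | succ i ih =>
      rw [pow_succ, mul_assoc, hc, Matrix.mul_smul, ← mul_assoc, ih, Matrix.smul_mul, smul_smul, mul_assoc,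
        ← pow_succ']
  have c4 : c ^ 4 = 1 := by
    have := k 4
    rw [hA, one_mul, mul_one] at this
    exact h.cancel hn.pos (this.symm.trans (one_smul _ _).symm)
  have : c = 1 := by rw [← pow_odd_sq hn c4, pow_mul, cn, one_pow]
  rwa [this, one_smul] at hc

theorem sq_sq {R : Type*} [Monoid R] {A : R} (h : A ^ 4 = 1) : A ^ 2 * A ^ 2 = 1 := by rw [← pow_add, h]

theorem Sm.ev_nd (hs : Sm ρ) (h2 : (2 : K) ≠ 0) {f : Matrix (Fin n) (Fin n) K →ₐ[K] Matrix (Fin n) (Fin n) K}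
    (hd : ∀ M, (f M).det = M.det) {A B : Γ} (c : Commute (ρ A) (ρ B)) (hA : ρ A ^ 4 = 1) (hB : ρ B ^ 4 = 1)
    {a b : Fin n → Bool} (fa : f (ρ A ^ 2) = ds K a) (fb : f (ρ B ^ 2) = ds K b) : ev (nd a b) := by
  refine ev_of_det h2 ?_
  rw [← hs.cut A B c hA hB, ← hd (1 - _)]
  congr 1
  refine (pj_ds h2 a b).symm.trans ?_
  simp only [pj, map_sub, map_smul, map_mul, map_one, fa, fb]

theorem Cov.no_sq3 {ρ : Γ →* Matrix (Fin 5) (Fin 5) K} (h : Cov ρ π) (hs : Sm ρ) : ¬ Sq3 X := by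
  rintro ⟨x, y, w, c1, c2, c3, hx, hy, hw, n1, n2, n3, n4, n5, n6, n7⟩
  have o : Odd 5 := by decide
  obtain ⟨A, rfl, hA⟩ := h.lift4 o hx
  obtain ⟨B, rfl, hB⟩ := h.lift4 o hy
  obtain ⟨C, rfl, hC⟩ := h.lift4 o hw
  have d1 := h.comm4 o hA c1
  have d2 := h.comm4 o hA c2
  have d3 := h.comm4 o hB c3
  obtain ⟨f, a, b, c, hf, hd, fa, fb, fc⟩ := diag3 h.two (sq_sq hA) (sq_sq hB) (sq_sq hC)
    (d1.pow_pow 2 2) (d2.pow_pow 2 2) (d3.pow_pow 2 2)
  simp only [← map_pow, ← map_mul] at n1 n2 n3 n4 n5 n6 n7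
  have v : ∀ g d, f (ρ g ^ 2) = ds K d → ev d := fun g d e =>
    ev_of_det h.two (by rw [← e, hd, ← map_pow, h.det])
  refine code5 a (v _ _ fa) (h.nc hf n1 ?_) b (v _ _ fb) (h.nc hf n2 ?_) (hs.ev_nd h.two hd d1 hA hB fa fb)
    (h.nc hf n4 ?_) c (v _ _ fc) (h.nc hf n3 ?_) (hs.ev_nd h.two hd d2 hA hC fa fc)
    (hs.ev_nd h.two hd d3 hB hC fb fc) (h.nc hf n5 ?_) (h.nc hf n6 ?_) (h.nc hf n7 ?_)
  all_goals simp only [map_mul ρ, map_pow ρ, map_mul f, fa, fb, fc, ds_mul]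
  all_goals rfl

theorem Cov.no_sq2 {ρ : Γ →* Matrix (Fin 3) (Fin 3) K} (h : Cov ρ π) (hs : Sm ρ) : ¬ Sq2 X := by
  rintro ⟨x, y, c1, hx, hy, n1, n2, n4⟩
  have o : Odd 3 := by decide
  obtain ⟨A, rfl, hA⟩ := h.lift4 o hx
  obtain ⟨B, rfl, hB⟩ := h.lift4 o hy
  have d1 := h.comm4 o hA c1
  obtain ⟨f, a, b, c, hf, hd, fa, fb, -⟩ := diag3 (C := 1) h.two (sq_sq hA) (sq_sq hB) (mul_one _)
    (d1.pow_pow 2 2) (by simp) (by simp)
  simp only [← map_pow, ← map_mul] at n1 n2 n4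
  have v : ∀ g d, f (ρ g ^ 2) = ds K d → ev d := fun g d e =>
    ev_of_det h.two (by rw [← e, hd, ← map_pow, h.det])
  refine code3 a (v _ _ fa) (h.nc hf n1 ?_) b (v _ _ fb) (h.nc hf n2 ?_) (hs.ev_nd h.two hd d1 hA hB fa fb)
    (h.nc hf n4 ?_)
  all_goals simp only [map_mul ρ, map_pow ρ, map_mul f, fa, fb, ds_mul]
  all_goals rfl

end Cfsg.Agent.FL
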